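import Cfsg.Agent.Lib.He.Simple
import Cfsg.Agent.Lib.He.Perm

/-!
A group of the order of the Held group with seven elements satisfying its relations is the Held group.
-/

set_option autoImplicit false

namespace CfsgLib.HeType

/-- Seven elements satisfying the relators, not all trivial, in a group of the right order. -/
theorem isoHe_of_rels {G : Type*} [Group G] [Finite G] (hG : Nat.card G = 4030387200) (g : Cfsg.Spor.He.Gen → G)
    (hrel : ∀ r ∈ CfsgLib.He.relList, FreeGroup.lift g r = 1) {i : Cfsg.Spor.He.Gen} (hi : g i ≠ 1) :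
    Cfsg.Spor.IsoHe G := by
  haveI := CfsgLib.He.card_he.1
  haveI : IsSimpleGroup Cfsg.Spor.He := CfsgLib.He.simple
  let φ : Cfsg.Spor.He →* G := PresentedGroup.toGroup (rels := Cfsg.Spor.coxRelators Cfsg.Spor.He.edges ∪
    {r | r ∈ Cfsg.Spor.He.extra}) (f := g) fun r hr => hrel r (CfsgLib.He.relList_mem.2 hr)
  have hinj : Function.Injective φ := by
    rw [← MonoidHom.ker_eq_bot_iff]
    refine (inferInstance : φ.ker.Normal).eq_bot_or_eq_top.resolve_right fun h => hi ?_
    have : (PresentedGroup.of i : Cfsg.Spor.He) ∈ φ.ker := h ▸ Subgroup.mem_top _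
    rw [← PresentedGroup.toGroup.of (f := g) (rels := Cfsg.Spor.coxRelators Cfsg.Spor.He.edges ∪
      {r | r ∈ Cfsg.Spor.He.extra}) (x := i)]
    exact this
  exact ⟨(MulEquiv.ofBijective φ ((Nat.bijective_iff_injective_and_card φ).2
    ⟨hinj, by rw [CfsgLib.He.card_he.2, hG]⟩)).symm⟩

end CfsgLib.HeType
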