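import Cfsg.Agent.S0215

/-!
# Fusion in the centraliser of a central involution: square roots in centralisers of two commuting conjugates
-/

set_option autoImplicit false
set_option linter.unusedSectionVars false

namespace CfsgLib.HeType

variable {G : Type*} [Group G] [Finite G]

/-- The square roots of `y` centralising both involutions. -/
def roots (t x y : G) : Set G := {h : G | h * t = t * h ∧ h * x = x * h ∧ h * h = y}

/-- The numerical condition on two classes linked by a swap. -/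
def Sw (t x x' : G) : Prop :=
  (roots t x t).ncard = (roots t x' x').ncard ∧ (roots t x x).ncard = (roots t x' t).ncard

/-- An involution of the centraliser other than the central one. -/
def Inv' (t x : G) : Prop := x * t = t * x ∧ x * x = 1 ∧ x ≠ 1 ∧ x ≠ t

theorem conj_comm (g : G) {a b : G} (h : a * b = b * a) :
    g * a * g⁻¹ * (g * b * g⁻¹) = g * b * g⁻¹ * (g * a * g⁻¹) := by
  calc g * a * g⁻¹ * (g * b * g⁻¹) = g * (a * b) * g⁻¹ := by group
    _ = g * (b * a) * g⁻¹ := by rw [h]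
    _ = g * b * g⁻¹ * (g * a * g⁻¹) := by group

/-- A swap of two commuting conjugates. -/
theorem exists_swap {t x : G} (ht : orderOf t = 2) (hx : Inv' t x) (hc : IsConj t x) :
    ∃ g : G, g * x * g⁻¹ = t ∧ Inv' t (g * t * g⁻¹) ∧ IsConj t (g * t * g⁻¹) ∧ Sw t x (g * t * g⁻¹) := by
  obtain ⟨g, e⟩ := isConj_iff.1 hc.symm
  refine ⟨g, e, ⟨?_, ?_, ?_, ?_⟩, isConj_iff.2 ⟨g, rfl⟩, ?_, ?_⟩
  · have := conj_comm g hx.1.symm
    rwa [e] at this
  · rw [show g * t * g⁻¹ * (g * t * g⁻¹) = g * (t * t) * g⁻¹ by group, ← pow_two t, ← ht, pow_orderOf_eq_one]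
    group
  · intro h
    rw [mul_inv_eq_one, mul_eq_left] at h
    rw [h, orderOf_one] at ht
    omega
  · intro h
    exact hx.2.2.2 (mul_left_cancel (mul_right_cancel (e.trans h.symm)))
  all_goals
    rw [← Set.ncard_image_of_injective _ (MulAut.conj g).injective]
    congr 1
    ext h
    constructor
    · rintro ⟨y, ⟨h1, h2, h3⟩, rfl⟩
      refine ⟨?_, ?_, ?_⟩ <;> simp only [MulAut.conj_apply]
      · have := conj_comm g h2
        rwa [e] at this
      · exact conj_comm g h1
      · calc g * y * g⁻¹ * (g * y * g⁻¹) = g * (y * y) * g⁻¹ := by group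
          _ = _ := by rw [h3]; all_goals exact e
    · rintro ⟨h1, h2, h3⟩
      refine ⟨g⁻¹ * h * g, ⟨?_, ?_, ?_⟩, by simp [mul_assoc]⟩
      · calc g⁻¹ * h * g * t = g⁻¹ * (h * (g * t * g⁻¹)) * g := by group
          _ = g⁻¹ * ((g * t * g⁻¹) * h) * g := by rw [h2]
          _ = t * (g⁻¹ * h * g) := by group
      · calc g⁻¹ * h * g * x = g⁻¹ * (h * (g * x * g⁻¹)) * g := by group
          _ = g⁻¹ * ((g * x * g⁻¹) * h) * g := by rw [e, h1]
          _ = x * (g⁻¹ * h * g) := by group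
      · calc g⁻¹ * h * g * (g⁻¹ * h * g) = g⁻¹ * (h * h) * g := by group
          _ = _ := by rw [h3]; first | (rw [← e]; group; done) | group

/-- In a non-abelian simple group every central involution is conjugate to another element of its centraliser. -/
theorem exists_fused [IsSimpleGroup G] {t : G} (ht : orderOf t = 2)
    (hne : Subgroup.centralizer ({t} : Set G) ≠ ⊤)
    (hodd : ¬ 2 ∣ (Subgroup.centralizer ({t} : Set G)).index) : ∃ x, Inv' t x ∧ IsConj t x := by
  haveI := Fact.mk Nat.prime_two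
  set C := Subgroup.centralizer ({t} : Set G) with hC
  obtain ⟨T⟩ : Nonempty (Sylow 2 ↥C) := inferInstance
  set S := (T : Subgroup ↥C).map C.subtype with hS
  have hp : IsPGroup 2 ↥S := T.2.map _
  have hi : ¬ 2 ∣ S.index := by
    rw [hS, Subgroup.index_map_subtype]
    exact fun h => (Nat.prime_two.dvd_mul.1 h).elim T.not_dvd_index hodd
  let P : Sylow 2 G := hp.toSylow hi
  have hPC : ∀ y ∈ (P : Subgroup G), y * t = t * y := by
    rintro _ ⟨y, -, rfl⟩
    exact Subgroup.mem_centralizer_singleton_iff.1 y.2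
  have htC : t ∈ C := Subgroup.mem_centralizer_singleton_iff.2 rfl
  have htP : t ∈ (P : Subgroup G) := by
    refine ⟨⟨t, htC⟩, ?_, rfl⟩
    have hz : Subgroup.zpowers (⟨t, htC⟩ : ↥C) ≤ Subgroup.center ↥C := by
      rw [Subgroup.zpowers_le, Subgroup.mem_center_iff]
      exact fun y => Subtype.ext (Subgroup.mem_centralizer_singleton_iff.1 y.2)
    haveI : (Subgroup.zpowers (⟨t, htC⟩ : ↥C)).Normal := ⟨fun n hn g => by
      rw [show g * n * g⁻¹ = n by rw [Subgroup.mem_center_iff.1 (hz hn) g, mul_inv_cancel_right]]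
      exact hn⟩
    have h2 : IsPGroup 2 ↥(Subgroup.zpowers (⟨t, htC⟩ : ↥C)) := IsPGroup.of_card (n := 1) (by
      rw [Nat.card_zpowers, pow_one, ← ht, ← Subgroup.orderOf_coe])
    exact (le_sup_right.trans (T.3 (T.2.to_sup_of_normal_right h2) le_sup_left).le) (Subgroup.mem_zpowers _)
  by_contra hno
  have ht2 : t * t = 1 := by rw [← pow_two, ← ht, pow_orderOf_eq_one]
  have ht1 : t ≠ 1 := fun e => by rw [e, orderOf_one] at ht; omega
  obtain ⟨N, hN, hNodd, hcomm⟩ := Cfsg.Agent.S0215.result P t ht htP fun g hg => by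
    by_contra hne'
    refine hno ⟨g * t * g⁻¹, ⟨hPC _ hg, ?_, ?_, hne'⟩, isConj_iff.2 ⟨g, rfl⟩⟩
    · rw [show g * t * g⁻¹ * (g * t * g⁻¹) = g * (t * t) * g⁻¹ by group, ht2]; group
    · intro h
      rw [mul_inv_eq_one, mul_eq_left] at h
      exact ht1 h
  rcases hN.eq_bot_or_eq_top with h | h
  · refine hne ((Subgroup.eq_top_iff' C).2 fun g => Subgroup.mem_centralizer_singleton_iff.2 ?_)
    have := hcomm g
    rw [h, Subgroup.mem_bot, mul_inv_eq_one, mul_inv_eq_iff_eq_mul] at this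
    exact this.symm
  · rw [h, Subgroup.card_top] at hNodd
    have : orderOf t ∣ Nat.card G := orderOf_dvd_natCard t
    rw [ht] at this
    exact Nat.not_even_iff_odd.2 hNodd (even_iff_two_dvd.2 this)

/-- No class of the centraliser passes the test: impossible. -/
theorem no_swap [IsSimpleGroup G] {t : G} (ht : orderOf t = 2)
    (hne : Subgroup.centralizer ({t} : Set G) ≠ ⊤)
    (hodd : ¬ 2 ∣ (Subgroup.centralizer ({t} : Set G)).index)
    (h : ∀ x x', Inv' t x → Inv' t x' → ¬ Sw t x x') : False := by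
  obtain ⟨x, hx, hc⟩ := exists_fused ht hne hodd
  obtain ⟨g, -, hi, -, hs⟩ := exists_swap ht hx hc
  exact h x _ hx hi hs

/-- The data of the split model: one of the two normal elementary groups of order sixteen meets the class. -/
theorem split_fused [IsSimpleGroup G] {t : G} (ht : orderOf t = 2)
    (hne : Subgroup.centralizer ({t} : Set G) ≠ ⊤)
    (hodd : ¬ 2 ∣ (Subgroup.centralizer ({t} : Set G)).index)
    {M L O : Set G}
    (hcover : ∀ x x', Inv' t x → Inv' t x' → Sw t x x' → x ∈ M ∨ x ∈ L ∨ x ∈ O)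
    (hLL : ∀ x x', x ∈ L → Inv' t x' → Sw t x x' → x' ∈ L)
    (hcent : ∀ x ∈ L, ∃ y, y ∈ M ∧ t * y ∈ M ∧ Inv' t y ∧ Inv' t (t * y) ∧
      (∀ h, h * t = t * h → h * x = x * h → h * y = y * h) ∧
      ∀ w, Inv' t w → (∀ h, h * t = t * h → h * x = x * h → h * w = w * h) → w = y ∨ w = t * y ∨ IsConj x w)
    (hO : ∀ x ∈ O, ∃ y ∈ O, y * x = x * y ∧ x ≠ y ∧ Inv' t y ∧ x * y ∈ O ∧ IsConj x y ∧ IsConj x (x * y))
    (hOt : ∀ y ∈ O, t * y ∉ M ∧ t * y ∉ L ∧ t * y ∉ O) :
    ∃ f, f ∈ M ∧ Inv' t f ∧ IsConj t f := by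
  by_contra hno
  have hM : ∀ f ∈ M, Inv' t f → ¬ IsConj t f := fun f hf hi hc => hno ⟨f, hf, hi, hc⟩
  have ht2 : t * t = 1 := by rw [← pow_two, ← ht, pow_orderOf_eq_one]
  have hKC : ∀ x, Inv' t x → IsConj t x → x ∈ L ∨ x ∈ O := fun x hx hc => by
    obtain ⟨g, -, hi, -, hs⟩ := exists_swap ht hx hc
    exact (hcover x _ hx hi hs).resolve_left fun h => hM x h hx hc
  have hnoL : ∀ x ∈ L, Inv' t x → ¬ IsConj t x := by
    intro x hxL hx hc
    obtain ⟨g, e, hi, hc', hs⟩ := exists_swap ht hx hc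
    obtain ⟨y, hy, hty, hiy, hity, hyc, -⟩ := hcent x hxL
    obtain ⟨y', -, -, -, -, -, hw⟩ := hcent _ (hLL x _ hxL hi hs)
    have him : ∀ u, u ∈ M → Inv' t u → (∀ h, h * t = t * h → h * x = x * h → h * u = u * h) →
        g * u * g⁻¹ = y' ∨ g * u * g⁻¹ = t * y' := by
      intro u hu hiu huc
      have hcm : ∀ h, h * t = t * h → h * (g * t * g⁻¹) = g * t * g⁻¹ * h →
          h * (g * u * g⁻¹) = g * u * g⁻¹ * h := by
        intro h h1 h2
        have a1 : g⁻¹ * h * g * t = t * (g⁻¹ * h * g) := by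
          calc g⁻¹ * h * g * t = g⁻¹ * (h * (g * t * g⁻¹)) * g := by group
            _ = g⁻¹ * (g * t * g⁻¹ * h) * g := by rw [h2]
            _ = t * (g⁻¹ * h * g) := by group
        have a2 : g⁻¹ * h * g * x = x * (g⁻¹ * h * g) := by
          calc g⁻¹ * h * g * x = g⁻¹ * (h * (g * x * g⁻¹)) * g := by group
            _ = g⁻¹ * (g * x * g⁻¹ * h) * g := by rw [e, h1]
            _ = x * (g⁻¹ * h * g) := by group
        calc h * (g * u * g⁻¹) = g * (g⁻¹ * h * g * u) * g⁻¹ := by group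
          _ = g * (u * (g⁻¹ * h * g)) * g⁻¹ := by rw [huc _ a1 a2]
          _ = g * u * g⁻¹ * h := by group
      have hxu : x * u = u * x := huc x hx.1 rfl
      have hinv : Inv' t (g * u * g⁻¹) := by
        refine ⟨?_, ?_, ?_, ?_⟩
        · have := conj_comm g hxu.symm
          rwa [e] at this
        · rw [show g * u * g⁻¹ * (g * u * g⁻¹) = g * (u * u) * g⁻¹ by group, hiu.2.1]; group
        · intro h
          rw [mul_inv_eq_one, mul_eq_left] at h
          exact hiu.2.2.1 h
        · exact fun h => hM u hu hiu (h ▸ (isConj_iff.2 ⟨g, rfl⟩ : IsConj u (g * u * g⁻¹)).symm)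
      rcases hw _ hinv hcm with h | h | h
      · exact .inl h
      · exact .inr h
      · exact absurd ((hc'.trans h).trans (isConj_iff.2 ⟨g, rfl⟩ : IsConj u (g * u * g⁻¹)).symm) (hM u hu hiu)
    have hprod : g * y * g⁻¹ * (g * (t * y) * g⁻¹) = g * t * g⁻¹ := by
      calc g * y * g⁻¹ * (g * (t * y) * g⁻¹) = g * (y * t * y) * g⁻¹ := by group
        _ = g * t * g⁻¹ := by rw [hiy.1, mul_assoc t, hiy.2.1, mul_one]
    have hne2 : g * y * g⁻¹ ≠ g * (t * y) * g⁻¹ := fun h => by
      have := mul_left_cancel (mul_right_cancel h)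
      rw [right_eq_mul] at this
      rw [this, orderOf_one] at ht
      omega
    rcases him y hy hiy hyc with h1 | h1 <;> rcases him (t * y) hty hity (fun h a b => by
      rw [← mul_assoc, a, mul_assoc, hyc h a b, ← mul_assoc]) with h2 | h2
    · exact hne2 (h1.trans h2.symm)
    · refine hi.2.2.2 ?_
      have hy't : y' * t = t * y' := by
        have := conj_comm g (hyc x hx.1 rfl).symm
        rwa [e, h1] at this
      have hy'2 : y' * y' = 1 := by
        rw [← h1, show g * y * g⁻¹ * (g * y * g⁻¹) = g * (y * y) * g⁻¹ by group, hiy.2.1]; group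
      rw [← hprod, h1, h2, ← mul_assoc, hy't, mul_assoc, hy'2, mul_one]
    · refine hi.2.2.2 ?_
      have hy'2 : y' * y' = 1 := by
        rw [← h2, show g * (t * y) * g⁻¹ * (g * (t * y) * g⁻¹) = g * (t * y * (t * y)) * g⁻¹ by group, hity.2.1]
        group
      rw [← hprod, h1, h2, mul_assoc, hy'2, mul_one]
    · exact hne2 (h1.trans h2.symm)
  obtain ⟨x, hx, hc⟩ := exists_fused ht hne hodd
  have hxO : x ∈ O := (hKC x hx hc).resolve_left fun h => hnoL x h hx hc
  obtain ⟨y, hy, hyx, hxy, hiy, hxyO, hcy, hcxy⟩ := hO x hxO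
  obtain ⟨g, e, hi, hc', -⟩ := exists_swap ht hx hc
  set y' := g * y * g⁻¹
  have hy't : y' * t = t * y' := by
    have := conj_comm g hyx
    rwa [e] at this
  have hy'2 : y' * y' = 1 := by
    rw [show y' * y' = g * (y * y) * g⁻¹ by simp only [y']; group, hiy.2.1]; group
  have hiy' : Inv' t y' := ⟨hy't, hy'2, fun h => hiy.2.2.1 (by
    rw [mul_inv_eq_one, mul_eq_left] at h; exact h),
    fun h => hxy (mul_left_cancel (mul_right_cancel (e.trans h.symm)))⟩
  have hcy' : IsConj t y' := (hc.trans hcy).trans (isConj_iff.2 ⟨g, rfl⟩)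
  have hy'O : y' ∈ O := (hKC y' hiy' hcy').resolve_left fun h => hnoL y' h hiy' hcy'
  have e2 : g * (x * y) * g⁻¹ = t * y' := by rw [← e]; simp only [y']; group
  have hc2 : IsConj t (t * y') := e2 ▸ (hc.trans hcxy).trans (isConj_iff.2 ⟨g, rfl⟩)
  have hi2 : Inv' t (t * y') := by
    refine ⟨by rw [mul_assoc, hy't], ?_, fun h => hiy'.2.2.2 ?_, fun h => hiy'.2.2.1 (mul_eq_left.1 h)⟩
    · rw [mul_assoc, ← mul_assoc y', hy't, mul_assoc, hy'2, mul_one, ht2]
    · calc y' = t * (t * y') := by rw [← mul_assoc, ht2, one_mul]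
        _ = t := by rw [h, mul_one]
  exact (hOt y' hy'O).2.2 ((hKC _ hi2 hc2).resolve_left (hOt y' hy'O).2.1)

/-- An involution of a set of even size with a fixed point has another one. -/
theorem exists_fixed_ne {α : Type*} [Fintype α] (h : 2 ∣ Fintype.card α) {f : α → α} (hf : Function.Involutive f)
    {a : α} (ha : f a = a) : ∃ b, f b = b ∧ b ≠ a := by
  classical
  haveI := Fact.mk Nat.prime_two
  let σ : Equiv.Perm α := hf.toPerm f
  obtain ⟨b, hb, hne⟩ := Equiv.Perm.exists_fixed_point_of_prime' (n := 1) h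
    (σ := σ) (by ext x; simp [σ, pow_succ, Equiv.Perm.mul_apply, hf x]) (show σ a = a from ha)
  exact ⟨b, hb, hne⟩

/-- The uniserial model: counting conjugates of the socle. -/
theorem socle_false {t : G} (ht : orderOf t = 2) {W : Subgroup G} (hW : Nat.card ↥W = 16) (htW : t ∈ W)
    (hWc : ∀ a ∈ W, ∀ b ∈ W, a * b = b * a)
    (hWK : ∀ x ∈ W, x ≠ 1 → IsConj t x)
    (hK : ∀ x, x * t = t * x → IsConj t x → x ∈ W)
    {n : ℕ} (hn : Nat.card G = 15 * Nat.card ↥(Subgroup.centralizer ({t} : Set G)) * n) (h16 : n % 16 ≠ 1) :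
    False := by
  classical
  have hKx : ∀ x ∈ W, x ≠ 1 → ∀ y, y * x = x * y → IsConj t y → y ∈ W := by
    intro x hxW hx1
    obtain ⟨k, hk⟩ := isConj_iff.1 (hWK x hxW hx1)
    have hsub : (W : Set G) \ {1} ⊆ (fun w => k * w * k⁻¹) '' ((W : Set G) \ {1}) := by
      rintro a ⟨ha, ha1⟩
      refine ⟨k⁻¹ * a * k, ⟨hK _ ?_ ((hWK a ha ha1).trans (isConj_iff.2 ⟨k⁻¹, by group⟩)), fun h => ha1 ?_⟩,
        by group⟩
      · calc k⁻¹ * a * k * t = k⁻¹ * (a * (k * t * k⁻¹)) * k := by group
          _ = k⁻¹ * ((k * t * k⁻¹) * a) * k := by rw [hk, hWc a ha x hxW]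
          _ = t * (k⁻¹ * a * k) := by group
      · calc a = k * (k⁻¹ * a * k) * k⁻¹ := by group
          _ = 1 := by rw [Set.mem_singleton_iff.1 h]; group
    have heq : (W : Set G) \ {1} = (fun w => k * w * k⁻¹) '' ((W : Set G) \ {1}) :=
      Set.eq_of_subset_of_ncard_le hsub (by
        rw [Set.ncard_image_of_injective _ fun a b e => mul_left_cancel (mul_right_cancel e)]) (Set.toFinite _)
    intro y hy hyc
    have hy' : k⁻¹ * y * k ∈ W := hK _ (by
      calc k⁻¹ * y * k * t = k⁻¹ * (y * (k * t * k⁻¹)) * k := by group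
        _ = k⁻¹ * ((k * t * k⁻¹) * y) * k := by rw [hk, hy]
        _ = t * (k⁻¹ * y * k) := by group) (hyc.trans (isConj_iff.2 ⟨k⁻¹, by group⟩))
    have hy1 : k⁻¹ * y * k ≠ 1 := fun h => by
      have : y = 1 := by
        calc y = k * (k⁻¹ * y * k) * k⁻¹ := by group
          _ = 1 := by rw [h]; group
      rw [this, isConj_one_left] at hyc
      rw [hyc, orderOf_one] at ht
      omega
    have : y ∈ (W : Set G) \ {1} := heq ▸ ⟨_, ⟨hy', hy1⟩, by group⟩
    exact this.1
  set N := Subgroup.normalizer (W : Set G) with hN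
  have hnorm : ∀ g : G, (∀ a ∈ W, g * a * g⁻¹ ∈ W) → g ∈ N := fun g hg => Subgroup.mem_normalizer_fintype hg
  -- the normaliser is transitive on the involutions of the group
  have hmove : ∀ x ∈ W, x ≠ 1 → ∃ g ∈ N, g * t * g⁻¹ = x := by
    intro x hxW hx1
    obtain ⟨k, hk⟩ := isConj_iff.1 (hWK x hxW hx1)
    refine ⟨k, hnorm k fun a ha => ?_, hk⟩
    by_cases ha1 : a = 1
    · simp [ha1]
    refine hKx x hxW hx1 _ ?_ ((hWK a ha ha1).trans (isConj_iff.2 ⟨k, rfl⟩))
    rw [← hk]
    calc k * a * k⁻¹ * (k * t * k⁻¹) = k * (a * t) * k⁻¹ := by group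
      _ = k * (t * a) * k⁻¹ := by rw [hWc a ha t htW]
      _ = k * t * k⁻¹ * (k * a * k⁻¹) := by group
  have ht1 : t ≠ 1 := fun e => by rw [e, orderOf_one] at ht; omega
  have hCN : Subgroup.centralizer ({t} : Set G) ≤ N := fun g hg => hnorm g fun a ha => by
    by_cases ha1 : a = 1
    · simp [ha1]
    refine hK _ ?_ ((hWK a ha ha1).trans (isConj_iff.2 ⟨g, rfl⟩))
    have h := Subgroup.mem_centralizer_singleton_iff.1 hg
    calc g * a * g⁻¹ * t = g * a * (g⁻¹ * t) := by group
      _ = g * (a * t) * g⁻¹ := by rw [(Commute.inv_left (h : Commute g t)).eq]; group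
      _ = g * (t * a) * g⁻¹ := by rw [hWc a ha t htW]
      _ = t * (g * a * g⁻¹) := by rw [← mul_assoc g, h]; group
  have hNcard : Nat.card ↥N = 15 * Nat.card ↥(Subgroup.centralizer ({t} : Set G)) := by
    letI : MulAction ↥N G := MulAction.compHom G (MulAut.conj.comp N.subtype)
    have hsm : ∀ (g : ↥N) (a : G), g • a = (g : G) * a * (g : G)⁻¹ := fun g a => rfl
    have horb : MulAction.orbit ↥N t = (W : Set G) \ {1} := by
      ext a
      constructor
      · rintro ⟨g, rfl⟩
        show g • t ∈ _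
        rw [hsm]
        exact ⟨(Subgroup.mem_normalizer_iff.1 g.2 t).1 htW, fun h => ht1 (by
          rw [Set.mem_singleton_iff, mul_inv_eq_one, mul_eq_left] at h; exact h)⟩
      · rintro ⟨ha, ha1⟩
        obtain ⟨g, hg, e⟩ := hmove a ha ha1
        exact ⟨⟨g, hg⟩, e⟩
    have hst : (MulAction.stabilizer ↥N t) = (Subgroup.centralizer ({t} : Set G)).subgroupOf N := by
      ext g
      rw [MulAction.mem_stabilizer_iff, hsm, Subgroup.mem_subgroupOf, Subgroup.mem_centralizer_singleton_iff,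
        mul_inv_eq_iff_eq_mul]
    have h := Nat.card_congr (MulAction.orbitProdStabilizerEquivGroup ↥N t)
    rw [Nat.card_prod, horb, hst, Nat.card_congr (Subgroup.subgroupOfEquivOfLe hCN).toEquiv,
      Nat.card_coe_set_eq, Set.ncard_diff_singleton_of_mem (one_mem W)] at h
    rw [← h, ← Nat.card_coe_set_eq]
    simp only [SetLike.coe_sort_coe, hW]
  have hidx : N.index = n := by
    have h := N.card_mul_index
    rw [hNcard, hn] at h
    exact Nat.eq_of_mul_eq_mul_left (by have := Nat.card_pos (α := ↥(Subgroup.centralizer ({t} : Set G))); omega) h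
  -- the free action on the other cosets
  letI : MulAction ↥W (G ⧸ N) := MulAction.compHom _ W.subtype
  have hfree : ∀ q : G ⧸ N, q ≠ QuotientGroup.mk 1 → MulAction.stabilizer ↥W q = ⊥ := by
    intro q hq
    obtain ⟨k, rfl⟩ := QuotientGroup.mk_surjective q
    refine (Subgroup.eq_bot_iff_forall _).2 fun x hx => ?_
    by_contra hx1
    apply hq
    have hx' : k⁻¹ * x * k ∈ N := by
      have e : (QuotientGroup.mk ((x : G) * k) : G ⧸ N) = QuotientGroup.mk k := hx
      have := QuotientGroup.eq.1 e.symm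
      rwa [← mul_assoc] at this
    -- an involution of the group normalising a conjugate centralises one of its involutions
    set x' := k⁻¹ * (x : G) * k with hx'def
    have hx'2 : x' * x' = 1 := by
      have h1 := hWc (x : G) x.2 t htW
      have hxx : (x : G) * x = 1 := by
        obtain ⟨c, hc⟩ := isConj_iff.1 (hWK x x.2 fun h => hx1 (Subtype.ext h))
        rw [← hc, show c * t * c⁻¹ * (c * t * c⁻¹) = c * (t * t) * c⁻¹ by group, ← pow_two t, ← ht,
          pow_orderOf_eq_one]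
        group
      rw [hx'def, show k⁻¹ * (x : G) * k * (k⁻¹ * x * k) = k⁻¹ * ((x : G) * x) * k by group, hxx]; group
    obtain ⟨y, hyW, hy1, hyx⟩ : ∃ y ∈ W, y ≠ 1 ∧ x' * y = y * x' := by
      let f : ↥W → ↥W := fun a => ⟨x' * a * x'⁻¹, (Subgroup.mem_normalizer_iff.1 hx' a).1 a.2⟩
      have hinv : Function.Involutive f := fun a => Subtype.ext (by
        show x' * (x' * a * x'⁻¹) * x'⁻¹ = a
        rw [show x' * (x' * (a : G) * x'⁻¹) * x'⁻¹ = (x' * x') * a * (x' * x')⁻¹ by group, hx'2]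
        group)
      haveI : Fintype ↥W := Fintype.ofFinite _
      have h2 : 2 ∣ Fintype.card ↥W := by rw [← Nat.card_eq_fintype_card, hW]; norm_num
      obtain ⟨a, ha, ha1⟩ := exists_fixed_ne h2 hinv
        (show f 1 = 1 from Subtype.ext (by show x' * (1 : G) * x'⁻¹ = 1; group))
      refine ⟨a, a.2, fun e => ha1 (Subtype.ext e), ?_⟩
      exact mul_inv_eq_iff_eq_mul.1 (congrArg Subtype.val ha)
    have hyW2 : k * y * k⁻¹ ∈ W := hKx x x.2 (fun h => hx1 (Subtype.ext h)) _ (by
      calc k * y * k⁻¹ * (x : G) = k * (y * x') * k⁻¹ := by rw [hx'def]; group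
        _ = k * (x' * y) * k⁻¹ := by rw [hyx]
        _ = (x : G) * (k * y * k⁻¹) := by rw [hx'def]; group) ((hWK y hyW hy1).trans (isConj_iff.2 ⟨k, rfl⟩))
    refine (QuotientGroup.eq.2 ?_).symm
    rw [inv_one, one_mul]
    refine hnorm k fun a ha => ?_
    by_cases ha1 : a = 1
    · simp [ha1]
    refine hKx _ hyW2 (fun h => hy1 ?_) _ ?_ ((hWK a ha ha1).trans (isConj_iff.2 ⟨k, rfl⟩))
    · rwa [mul_inv_eq_one, mul_eq_left] at h
    · calc k * a * k⁻¹ * (k * y * k⁻¹) = k * (a * y) * k⁻¹ := by group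
        _ = k * (y * a) * k⁻¹ := by rw [hWc a ha y hyW]
        _ = k * y * k⁻¹ * (k * a * k⁻¹) := by group
  -- the base point is fixed
  have hfix : ∀ x : ↥W, x • (QuotientGroup.mk 1 : G ⧸ N) = QuotientGroup.mk 1 := fun x => by
    show (QuotientGroup.mk ((x : G) * 1) : G ⧸ N) = _
    rw [mul_one]
    refine (QuotientGroup.eq.2 ?_).symm
    rw [inv_one, one_mul]
    exact Subgroup.le_normalizer x.2
  letI : MulAction ↥W {q : G ⧸ N // q ≠ QuotientGroup.mk 1} :=
    { smul := fun x q => ⟨x • q.1, fun h => q.2 (by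
        have := congrArg (fun r => x⁻¹ • r) h
        simpa [hfix] using this)⟩
      one_smul := fun q => Subtype.ext (one_smul _ q.1)
      mul_smul := fun a b q => Subtype.ext (mul_smul a b q.1) }
  have hst : ∀ q : {q : G ⧸ N // q ≠ QuotientGroup.mk 1}, MulAction.stabilizer ↥W q = ⊥ := fun q =>
    le_bot_iff.1 fun x hx => hfree q.1 q.2 ▸ (congrArg Subtype.val hx : x • q.1 = q.1)
  have hcard : Nat.card {q : G ⧸ N // q ≠ QuotientGroup.mk 1} = n - 1 := by
    haveI : Fintype (G ⧸ N) := Fintype.ofFinite _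
    rw [Nat.card_eq_fintype_card, Fintype.card_subtype_compl, Fintype.card_subtype_eq,
      ← Nat.card_eq_fintype_card, ← Subgroup.index_eq_card, hidx]
  have h := Nat.card_congr (MulAction.selfEquivOrbitsQuotientProd hst)
  rw [Nat.card_prod, hcard, hW] at h
  have hn0 : 0 < n := hidx ▸ Nat.pos_of_ne_zero Subgroup.index_ne_zero_of_finite
  omega

end CfsgLib.HeType
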