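import Cfsg.Agent.Lib.HeType.Coords.Exists
import Cfsg.Agent.Lib.HeType.Coords.Swap
import Cfsg.Agent.Lib.HeType.Fusion.Coords
import Cfsg.Prelude.Def_Spor_He

/-!
# From the centraliser of an involution to coordinates with a fused generator
-/

set_option autoImplicit false
open Cfsg

namespace CfsgLib.HeType

/-- Split coordinates in which the first generator is fused to the central involution. -/
theorem fused_frame {G : Type*} [Group G] [Finite G] [IsSimpleGroup G] (t : G) (ht : orderOf t = 2)
    (Q : Subgroup (Subgroup.centralizer ({t} : Set G))) [Q.Normal]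
    (hQ : Cfsg.IsExtraspecial 2 Q) (hcard : Nat.card Q = 2 ^ 7)
    (h2c : Subgroup.centralizer (Q : Set (Subgroup.centralizer ({t} : Set G))) ≤ Q)
    (ε : (Subgroup.centralizer ({t} : Set G)) ⧸ Q ≃* Matrix.SpecialLinearGroup (Fin 3) (ZMod 2))
    (hG : Nat.card G = 4030387200) :
    ∃ (x y r : G) (a b : ℕ → G), Coords t (Q.map (Subgroup.centralizer ({t} : Set G)).subtype)
      [65, 4, 2, 72, 120, 96] true x y r a b ∧ IsConj t (a 0) := by
  obtain ⟨R, e, x, y, r, a, b, h⟩ := exists_coords t ht Q hQ hcard h2c ε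
  obtain ⟨rfl, rfl, hf | hf⟩ := fused h hG
  · exact ⟨x, y, r, a, b, h, hf⟩
  · obtain ⟨x', y', r', a', b', h', ha⟩ := h.swap
    exact ⟨x', y', r', a', b', h', ha ▸ hf⟩

end CfsgLib.HeType
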