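import Cfsg.Agent.S1682

/-!
The maximal subgroup of the presented Held group carried to an isomorphic group.
-/

set_option autoImplicit false
open Cfsg

namespace CfsgLib.HeType

/-- A group isomorphic to the presented Held group has a subgroup with a symplectic subgroup of index two. -/
theorem sp_of_isoHe {G : Type*} [Group G] (h : Cfsg.Spor.IsoHe G) :
    ∃ (H : Subgroup G) (N : Subgroup H) (K : Type) (_ : Field K) (_ : Fintype K), N.Normal ∧ N.index = 2 ∧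
      Fintype.card K = 4 ∧ Nonempty (N ≃* Matrix.symplecticGroup (Fin 2) K) := by
  obtain ⟨φ⟩ := h
  obtain ⟨N, K, iF, iK, hN, hi, hK, ⟨e⟩⟩ := Cfsg.Agent.S1682.result
  let ψ := φ.symm.subgroupMap ((Subgroup.closure ({Cfsg.Spor.He.a, Cfsg.Spor.He.c, Cfsg.Spor.He.d, Cfsg.Spor.He.e,
    Cfsg.Spor.He.f, (Cfsg.Spor.He.a * Cfsg.Spor.He.b) ^ 2,
    (Cfsg.Spor.He.b * Cfsg.Spor.He.c * Cfsg.Spor.He.d * Cfsg.Spor.He.e) ^ 7} :
      Set (FreeGroup Cfsg.Spor.He.Gen))).map (PresentedGroup.mk (Cfsg.Spor.coxRelators Cfsg.Spor.He.edges ∪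
        {r | r ∈ Cfsg.Spor.He.extra})))
  exact ⟨_, N.map ψ.toMonoidHom, K, iF, iK, hN.map _ ψ.surjective, (N.index_map_equiv ψ).trans hi, hK,
    ⟨(ψ.subgroupMap N).symm.trans e⟩⟩

end CfsgLib.HeType
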